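import Mathlib
import Groth.Prelude.Def_RegImm
import Groth.Agent.H47.CIField.Scheme
import Groth.Agent.H47.CI.Scheme
import Groth.Agent.H47.CI.Bridge

/-!
# The fibrewise complete intersection locus commutes with base change (S9379)
-/

set_option autoImplicit false
set_option linter.style.haveILetI false
set_option linter.unusedSectionVars false
universe u
open CategoryTheory CategoryTheory.Limits AlgebraicGeometry

namespace Groth.Agent.H47.CIField

section field

variable (k : Type u) [Field k] (X : Scheme.{u}) (p : X ⟶ Spec (CommRingCat.of k))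

/-- for a scheme locally of finite type over a field, a stalk is a complete intersection over `k`
iff it is an absolute complete intersection -/
theorem isCIOver_stalk_iff [LocallyOfFiniteType p] (x : X) :
    @Synt.IsCIOver k _ (X.presheaf.stalk x) _ (Groth.Agent.H47.CI.algStalk k X p x) _ ↔
      Pi1.IsCompleteIntersection (X.presheaf.stalk x) := by
  obtain ⟨U, hU, hxU, -⟩ := exists_isAffineOpen_mem_and_subset (x := x) (U := ⊤) trivial
  letI := Groth.Agent.H47.CI.algΓ k X p U
  letI := Groth.Agent.H47.CI.algStalk k X p x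
  haveI : Algebra.FiniteType k Γ(X, U) := Groth.Agent.H47.CI.finiteType_Γ k X p U hU
  obtain ⟨e⟩ := Groth.Agent.H47.CI.nonempty_algEquiv_stalk k X p U hU x hxU
  rw [← Groth.Agent.H47.CI.isCompleteIntersection_iff_of_ringEquiv e.toRingEquiv,
    ← Groth.Agent.H47.CI.isCIOver_atPrime_iff_isCompleteIntersection k]
  exact ⟨Groth.Agent.H47.CI.isCIOver_of_algEquiv k e.symm,
    Groth.Agent.H47.CI.isCIOver_of_algEquiv k e⟩

end field

variable {X Y X' Y' : Scheme.{u}}

/-- Transport along an equality of base points: the stalk of a fibre at any point over `x`. -/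
theorem ci_fiber_stalk_iff_asFiber (f : X ⟶ Y) (x : X) (y : Y) (hy : f x = y) (z0 : f.fiber y)
    (hz : f.fiberι y z0 = x) :
    Pi1.IsCompleteIntersection ((f.fiber y).presheaf.stalk z0) ↔
      Pi1.IsCompleteIntersection ((f.fiber (f x)).presheaf.stalk (f.asFiber x)) := by
  subst hy
  have : z0 = f.asFiber x := by
    apply (f.fiberι (f x)).isEmbedding.injective
    rw [hz, Scheme.Hom.fiberι_asFiber]
  rw [this]

/-- the complete intersection property of the fibre stalk is invariant under base change -/
theorem ci_fiber_stalk_iff_of_isPullback (f : X ⟶ Y) (f' : X' ⟶ Y') (g' : X' ⟶ X) (g : Y' ⟶ Y)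
    (hc : IsPullback g' f' f g) (x' : X') [LocallyOfFiniteType f] :
    Pi1.IsCompleteIntersection
        ((f.fiber (f (g' x'))).presheaf.stalk (f.asFiber (g' x'))) ↔
      Pi1.IsCompleteIntersection
        ((f'.fiber (f' x')).presheaf.stalk (f'.asFiber x')) := by
  have hsq := isPullback_fiberToSpecResidueField_of_isPullback hc (f' x')
  haveI : LocallyOfFiniteType (f.fiberToSpecResidueField (g (f' x'))) :=
    inferInstanceAs (LocallyOfFiniteType (pullback.snd f (Y.fromSpecResidueField (g (f' x')))))
  have hL := ci_stalk_iff_of_isPullback_field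
    (Y.residueField (g (f' x'))) (Y'.residueField (f' x')) (g.residueFieldMap (f' x')).hom
    (f.fiberToSpecResidueField (g (f' x'))) _ (f'.fiberToSpecResidueField (f' x')) hsq
    (f'.asFiber x')
  refine Iff.trans (Iff.symm ?_) hL
  have hfx : f (g' x') = g (f' x') := by
    rw [← Scheme.Hom.comp_apply, ← Scheme.Hom.comp_apply, hc.w]
  refine ci_fiber_stalk_iff_asFiber f (g' x') (g (f' x')) hfx _ ?_
  have hmap : pullback.map _ _ _ _ g' (Spec.map (g.residueFieldMap (f' x'))) g hc.w.symm
      (by simp) ≫ f.fiberι (g (f' x')) = f'.fiberι (f' x') ≫ g' :=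
    pullback.lift_fst _ _ _
  have h6 := congrArg (fun h : (f'.fiber (f' x')) ⟶ X => h (f'.asFiber x')) hmap
  simp only [Scheme.Hom.comp_apply, Scheme.Hom.fiberι_asFiber] at h6
  exact h6

/-- S9379 -/
theorem setOf_fibre_isCIOver_baseChange {X S X' S' : Scheme.{u}} (f : X ⟶ S)
    [LocallyOfFiniteType f] (g : S' ⟶ S)
    (g' : X' ⟶ X) (f' : X' ⟶ S') (hsq : IsPullback g' f' f g) :
    {x' : ↑X' |
        letI := ((Scheme.ΓSpecIso (S'.residueField (f'.base x'))).inv ≫
            (f'.fiberToSpecResidueField (f'.base x')).appLE ⊤ ⊤ le_top ≫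
              (f'.fiber (f'.base x')).presheaf.germ ⊤ (f'.asFiber x') trivial).hom.toAlgebra
        Synt.IsCIOver (S'.residueField (f'.base x')) ((f'.fiber (f'.base x')).presheaf.stalk (f'.asFiber x'))} =
      g'.base ⁻¹' {x : ↑X |
        letI := ((Scheme.ΓSpecIso (S.residueField (f.base x))).inv ≫
            (f.fiberToSpecResidueField (f.base x)).appLE ⊤ ⊤ le_top ≫
              (f.fiber (f.base x)).presheaf.germ ⊤ (f.asFiber x) trivial).hom.toAlgebra
        Synt.IsCIOver (S.residueField (f.base x)) ((f.fiber (f.base x)).presheaf.stalk (f.asFiber x))} := by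
  haveI : LocallyOfFiniteType f' := MorphismProperty.of_isPullback hsq ‹_›
  ext x'
  simp only [Set.mem_ofPred_eq, Set.mem_preimage]
  haveI h1 : LocallyOfFiniteType (f'.fiberToSpecResidueField (f' x')) :=
    inferInstanceAs (LocallyOfFiniteType (pullback.snd f' (S'.fromSpecResidueField (f' x'))))
  haveI h2 : LocallyOfFiniteType (f.fiberToSpecResidueField (f (g' x'))) :=
    inferInstanceAs (LocallyOfFiniteType (pullback.snd f (S.fromSpecResidueField (f (g' x')))))
  have hL := isCIOver_stalk_iff (S'.residueField (f' x')) (f'.fiber (f' x'))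
    (f'.fiberToSpecResidueField (f' x')) (f'.asFiber x')
  have hR := isCIOver_stalk_iff (S.residueField (f (g' x'))) (f.fiber (f (g' x')))
    (f.fiberToSpecResidueField (f (g' x'))) (f.asFiber (g' x'))
  exact hL.trans ((ci_fiber_stalk_iff_of_isPullback f f' g' g hsq x').symm.trans hR.symm)

end Groth.Agent.H47.CIField
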